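import Mathlib

set_option autoImplicit false
set_option linter.style.haveILetI false

/-!
# Components of flat algebras over normal local domains of dimension at least two
-/

universe u

open TensorProduct IsLocalRing

namespace Groth.Agent.CTwoLib

/-- If some nonzero non-maximal prime exists in a normal noetherian local domain, then for every nonzero
element of the maximal ideal the maximal ideal contains a nonzerodivisor modulo it. -/
theorem exists_regular_mod (C : Type u) [CommRing C] [IsDomain C] [IsLocalRing C] [IsNoetherianRing C]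
    [IsIntegrallyClosed C] (P : Ideal C) [P.IsPrime] (hP0 : P ≠ ⊥) (hPm : P ≠ maximalIdeal C)
    (x : C) (hx : x ≠ 0) (hxm : x ∈ maximalIdeal C) :
    ∃ y ∈ maximalIdeal C, ∀ z, y * z ∈ Ideal.span {x} → z ∈ Ideal.span {x} := by
  classical
  by_contra hcon
  push Not at hcon
  have hsub : (maximalIdeal C : Set C) ⊆ {r : C | ∃ z : C ⧸ Ideal.span {x}, z ≠ 0 ∧ r • z = 0} := by
    intro y hy
    obtain ⟨z, hz1, hz2⟩ := hcon y hy
    refine ⟨Ideal.Quotient.mk _ z, fun h => hz2 (Ideal.Quotient.eq_zero_iff_mem.mp h), ?_⟩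
    rw [Algebra.smul_def, Ideal.Quotient.algebraMap_eq, ← map_mul, Ideal.Quotient.eq_zero_iff_mem]
    exact hz1
  rw [← biUnion_associatedPrimes_eq_zero_divisors C (C ⧸ Ideal.span {x})] at hsub
  have hfin := associatedPrimes.finite C (C ⧸ Ideal.span {x})
  have hsub' : (maximalIdeal C : Set C) ⊆ ⋃ q ∈ (hfin.toFinset : Set (Ideal C)), (q : Set C) := by
    simpa using hsub
  obtain ⟨q, hq, hmq⟩ := (Ideal.subset_union_prime (R := C) ⊥ ⊥ (fun q hq _ _ =>
    (hfin.mem_toFinset.mp hq).isPrime)).mp hsub'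
  have hqass := hfin.mem_toFinset.mp hq
  have hqm : q = maximalIdeal C :=
    le_antisymm (le_maximalIdeal hqass.isPrime.ne_top) hmq
  obtain ⟨_, zq, hzq⟩ := isAssociatedPrime_iff.mp (hqm ▸ hqass)
  obtain ⟨z, rfl⟩ := Ideal.Quotient.mk_surjective zq
  have hmem : ∀ b, b ∈ maximalIdeal C ↔ b * z ∈ Ideal.span {x} := by
    intro b
    rw [hzq, Submodule.mem_colon_singleton, Submodule.mem_bot, Algebra.smul_def,
      Ideal.Quotient.algebraMap_eq, ← map_mul, Ideal.Quotient.eq_zero_iff_mem]
  have hzx : z ∉ Ideal.span {x} := fun h =>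
    (maximalIdeal.isMaximal C).ne_top ((Ideal.eq_top_iff_one _).mpr ((hmem 1).mpr (by rwa [one_mul])))
  choose c hc using fun (b : maximalIdeal C) => Ideal.mem_span_singleton'.mp ((hmem b.1).mp b.2)
  by_cases hall : ∀ b, c b ∈ maximalIdeal C
  · -- then `z / x` is integral
    let K := FractionRing C
    let t : K := algebraMap C K z / algebraMap C K x
    have hxK : algebraMap C K x ≠ 0 := by
      simpa using (IsFractionRing.injective C K).ne hx
    let N : Submodule C K := Submodule.map (Algebra.linearMap C K) (maximalIdeal C)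
    have hN : N.FG := (IsNoetherian.noetherian (maximalIdeal C)).map _
    have ht : ∀ v ∈ N, t * v ∈ N := by
      rintro _ ⟨b, hb, rfl⟩
      refine ⟨c ⟨b, hb⟩, hall _, ?_⟩
      simp only [Algebra.linearMap_apply, t]
      rw [div_mul_eq_mul_div, eq_div_iff hxK, ← map_mul, ← map_mul, hc, mul_comm]
    have hNbot : N ≠ ⊥ := by
      intro h
      have : algebraMap C K x ∈ N := ⟨x, hxm, rfl⟩
      rw [h, Submodule.mem_bot] at this
      exact hxK this
    have hint : IsIntegral C t := by
      exact isIntegral_of_smul_mem_submodule N hNbot hN t ht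
    obtain ⟨d, hd⟩ := IsIntegrallyClosed.isIntegral_iff.mp hint
    apply hzx
    rw [Ideal.mem_span_singleton']
    exact ⟨d, IsFractionRing.injective C K (by rw [map_mul, hd, div_mul_cancel₀ _ hxK])⟩
  · -- then the maximal ideal is principal
    push Not at hall
    obtain ⟨a, ha⟩ := hall
    have hau : IsUnit (c a) := by simpa using ha
    obtain ⟨v, hv⟩ := hau.exists_right_inv
    have hprin : maximalIdeal C = Ideal.span {(a : C)} := by
      refine le_antisymm (fun b hb => ?_) ((Ideal.span_singleton_le_iff_mem _).mpr a.2)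
      rw [Ideal.mem_span_singleton']
      have h1 := hc ⟨b, hb⟩
      have h2 := hc a
      refine ⟨c ⟨b, hb⟩ * v, mul_right_cancel₀ (b := x) hx ?_⟩
      linear_combination (v * (a : C)) * h1 + (-(v * b)) * h2 + (x * b) * hv
    have haP : (a : C) ∉ P := fun h => hPm (le_antisymm (le_maximalIdeal ‹P.IsPrime›.ne_top)
      (hprin.le.trans ((Ideal.span_singleton_le_iff_mem _).mpr h)))
    refine hP0 (Submodule.eq_bot_of_le_smul_of_le_jacobson_bot (Ideal.span {(a : C)}) P
      (IsNoetherian.noetherian P) ?_ (hprin ▸ IsLocalRing.maximalIdeal_le_jacobson _))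
    intro w hw
    have hw' : w ∈ Ideal.span {(a : C)} := hprin ▸ le_maximalIdeal ‹P.IsPrime›.ne_top hw
    obtain ⟨r, rfl⟩ := Ideal.mem_span_singleton'.mp hw'
    rw [smul_eq_mul, mul_comm r]
    exact Submodule.smul_mem_smul (Ideal.mem_span_singleton_self _)
      ((‹P.IsPrime›.mem_or_mem hw).resolve_right haP)

/-- Minimal primes of a flat algebra over a normal local domain of dimension at least two are not
submaximal. -/
theorem exists_lt_not_isMaximal (C S : Type u) [CommRing C] [IsDomain C] [IsLocalRing C]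
    [IsNoetherianRing C] [IsIntegrallyClosed C] [CommRing S] [IsNoetherianRing S] [Algebra C S]
    [Module.Flat C S] (P : Ideal C) [P.IsPrime] (hP0 : P ≠ ⊥) (hPm : P ≠ maximalIdeal C)
    (hloc : ∀ M : Ideal S, M.IsMaximal → (maximalIdeal C).map (algebraMap C S) ≤ M)
    (q : Ideal S) (hq : q ∈ minimalPrimes S) :
    ∃ Q : Ideal S, Q.IsPrime ∧ q < Q ∧ ¬ Q.IsMaximal := by
  classical
  by_contra hcon
  push Not at hcon
  obtain ⟨x, hxm, hx⟩ := Submodule.exists_mem_ne_zero_of_ne_bot (p := maximalIdeal C)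
    (fun h => hP0 (le_bot_iff.mp (h ▸ le_maximalIdeal ‹P.IsPrime›.ne_top)))
  obtain ⟨y, hym, hy⟩ := exists_regular_mod C P hP0 hPm x hx hxm
  let x' := algebraMap C S x
  have hxreg : IsSMulRegular S x' := IsSMulRegular.of_flat (IsSMulRegular.of_ne_zero hx)
  have hx0 : ∀ s, x' * s = 0 → s = 0 := by
    intro s hs
    refine hxreg (?_ : x' • s = x' • 0)
    rw [smul_zero, smul_eq_mul]
    exact hs
  let I := Ideal.span {x}
  haveI : Module.Flat (C ⧸ I) (S ⧸ I.map (algebraMap C S)) :=
    Module.Flat.of_linearEquiv (Algebra.TensorProduct.quotIdealMapEquivQuotTensor S I).toLinearEquiv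
  have hyreg : IsSMulRegular (S ⧸ I.map (algebraMap C S))
      (algebraMap (C ⧸ I) (S ⧸ I.map (algebraMap C S)) (Ideal.Quotient.mk I y)) := by
    refine IsSMulRegular.of_flat (fun a b hab => ?_)
    obtain ⟨a, rfl⟩ := Ideal.Quotient.mk_surjective a
    obtain ⟨b, rfl⟩ := Ideal.Quotient.mk_surjective b
    rw [Ideal.Quotient.eq]
    refine hy _ ?_
    rw [← Ideal.Quotient.eq_zero_iff_mem, map_mul, map_sub, mul_sub, sub_eq_zero]
    exact hab
  let J0 := I.map (algebraMap C S)
  have hJ0 : J0 = Ideal.span {x'} := by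
    simp only [J0, I, x', Ideal.map_span, Set.image_singleton]
  have hyS : ∀ s, algebraMap C S y * s ∈ J0 → s ∈ J0 := by
    intro s hs
    rw [← Ideal.Quotient.eq_zero_iff_mem] at hs ⊢
    refine hyreg ?_
    simp only [smul_zero, smul_eq_mul]
    rw [mul_zero, ← hs, map_mul]
    rfl
  -- an element with annihilator `q`
  have hqA : q ∈ associatedPrimes S S := by
    refine Module.associatedPrimes.minimalPrimes_annihilator_subset_associatedPrimes S S ?_
    rwa [Module.annihilator_eq_bot.mpr inferInstance]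
  obtain ⟨_, z, hz⟩ := isAssociatedPrime_iff.mp hqA
  have hzmem : ∀ r, r ∈ q ↔ r * z = 0 := fun r => by
    rw [hz, Submodule.mem_colon_singleton, Submodule.mem_bot, smul_eq_mul]
  have hz0 : z ≠ 0 := fun h => hq.1.1.ne_top
    ((Ideal.eq_top_iff_one _).mpr ((hzmem 1).mpr (by rw [h, mul_zero])))
  have hxjac : J0 ≤ Ideal.jacobson ⊥ := by
    refine le_sInf fun M hM => ?_
    exact (Ideal.map_mono ((Ideal.span_singleton_le_iff_mem _).mpr hxm)).trans (hloc M hM.2)
  have hex : ∃ n, z ∉ J0 ^ n := by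
    by_contra h
    push Not at h
    refine hz0 ?_
    have h1 : z ∈ (⨅ n : ℕ, J0 ^ n • (⊤ : Submodule S S)) := by
      refine (Submodule.mem_iInf _).mpr fun n => ?_
      rw [smul_eq_mul, Ideal.mul_top]
      exact h n
    rwa [Ideal.iInf_pow_smul_eq_bot_of_le_jacobson _ hxjac, Submodule.mem_bot] at h1
  obtain ⟨i, hi⟩ : ∃ i, Nat.find hex = i + 1 := by
    rcases h : Nat.find hex with _ | i
    · exact absurd (h ▸ Nat.find_spec hex) (by simp)
    · exact ⟨i, rfl⟩
  have hzi : z ∈ J0 ^ i := not_not.mp (Nat.find_min hex (by omega))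
  have hzi' : z ∉ J0 ^ (i + 1) := hi ▸ Nat.find_spec hex
  rw [hJ0, Ideal.span_singleton_pow, Ideal.mem_span_singleton'] at hzi
  obtain ⟨z', hz'⟩ := hzi
  have hz'J : z' ∉ J0 := by
    rw [hJ0, Ideal.mem_span_singleton']
    rintro ⟨w, hw⟩
    apply hzi'
    rw [hJ0, Ideal.span_singleton_pow, Ideal.mem_span_singleton']
    exact ⟨w, by rw [← hz', ← hw, pow_succ]; ring⟩
  have hqz : ∀ r ∈ q, r * z' = 0 := by
    intro r hr
    have h0 : x' ^ i * (r * z') = 0 := by
      rw [← (hzmem r).mp hr, ← hz']; ring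
    have hcancel : ∀ n : ℕ, ∀ s, x' ^ n * s = 0 → s = 0 := by
      intro n
      induction n with
      | zero => intro s hs; simpa using hs
      | succ n ih => intro s hs; exact ih s (hx0 _ (by rw [← hs, pow_succ]; ring))
    exact hcancel i _ h0
  let J := Submodule.colon J0 {z'}
  have hJmem : ∀ r, r ∈ J ↔ r * z' ∈ J0 := fun r => by
    rw [Submodule.mem_colon_singleton, smul_eq_mul]
  have hqJ : q ≤ J := fun r hr => (hJmem r).mpr (by rw [hqz r hr]; exact Submodule.zero_mem _)
  have hxJ : x' ∈ J := (hJmem _).mpr (Ideal.mul_mem_right _ _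
    (hJ0 ▸ Ideal.mem_span_singleton_self x'))
  have hxq : x' ∉ q := fun h => hz0 (hx0 z ((hzmem x').mp h))
  have hyrad : algebraMap C S y ∈ J.radical := by
    rw [Ideal.radical_eq_sInf, Submodule.mem_sInf]
    rintro Q ⟨hJQ, hQ⟩
    have hlt : q < Q := lt_of_le_of_ne (hqJ.trans hJQ) (fun h => hxq (h ▸ hJQ hxJ))
    exact hloc Q (hcon Q hQ hlt) (Ideal.mem_map_of_mem _ hym)
  obtain ⟨n, hn⟩ := hyrad
  rw [hJmem] at hn
  have : ∀ n : ℕ, ∀ s, algebraMap C S y ^ n * s ∈ J0 → s ∈ J0 := by
    intro n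
    induction n with
    | zero => intro s hs; simpa using hs
    | succ n ih => intro s hs; exact ih s (hyS _ (by rwa [← mul_assoc, ← pow_succ']))
  exact hz'J (this n z' hn)

end Groth.Agent.CTwoLib
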