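import Mathlib
import Groth.Agent.CTwoLib.Basic
import Groth.Agent.NagataCompleteLib.Complete
import Groth.Agent.NormalTensor.Henselian

set_option autoImplicit false
set_option linter.style.haveILetI false

/-!
# Components of flat algebras over complete local domains of dimension at least two
-/

universe u

open TensorProduct IsLocalRing

namespace Groth.Agent.CTwoLib

theorem exists_lt_not_isMaximal_of_complete (A B : Type u) [CommRing A] [IsDomain A] [IsLocalRing A]
    [IsNoetherianRing A] [IsAdicComplete (maximalIdeal A) A] [CommRing B] [IsLocalRing B]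
    [IsNoetherianRing B] [Algebra A B] [IsLocalHom (algebraMap A B)] [Module.Flat A B]
    (P0 : Ideal A) [P0.IsPrime] (hP0 : P0 ≠ ⊥) (hPm : P0 ≠ maximalIdeal A)
    (q : Ideal B) (hq : q ∈ minimalPrimes B) :
    ∃ Q : Ideal B, Q.IsPrime ∧ q < Q ∧ ¬ Q.IsMaximal := by
  classical
  let K := FractionRing A
  let C := integralClosure A K
  haveI : Module.Finite A C := NagataCompleteLib.isN2_complete A K inferInstance
  haveI : IsNoetherianRing C := IsNoetherianRing.of_finite A C
  haveI : IsFractionRing C K := integralClosure.isFractionRing_of_finite_extension K K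
  haveI : IsIntegrallyClosed C := integralClosure.isIntegrallyClosedOfFiniteExtension K
  haveI : HenselianLocalRing A := Hensel.henselianRing_maximalIdeal_iff.mp inferInstance
  haveI : IsLocalRing C := NormalTensor.isLocalRing_of_finite_domain A C
  have hAC : Function.Injective (algebraMap A C) := by
    intro a b h
    exact IsFractionRing.injective A K (congrArg Subtype.val h)
  have hmAC : ∀ (M : Ideal C) [M.IsPrime], maximalIdeal A ≤ M.comap (algebraMap A C) →
      M = maximalIdeal C := by
    intro M _ h
    refine IsLocalRing.eq_maximalIdeal (Ideal.isMaximal_of_isIntegral_of_isMaximal_comap (R := A) M ?_)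
    rw [← (maximalIdeal.isMaximal A).eq_of_le (Ideal.comap_ne_top _ ‹M.IsPrime›.ne_top) h]
    infer_instance
  obtain ⟨P, hPp, hPc⟩ := Ideal.exists_ideal_over_prime_of_isIntegral_of_isDomain (S := C) P0
    (by rw [(RingHom.injective_iff_ker_eq_bot _).mp hAC]; exact bot_le)
  have hP : P ≠ ⊥ := by
    rintro rfl
    exact hP0 (hPc ▸ Ideal.comap_bot_of_injective _ hAC)
  have hPmC : P ≠ maximalIdeal C := by
    rintro rfl
    refine hPm (hPc ▸ ?_)
    haveI : ((maximalIdeal C).comap (algebraMap A C)).IsMaximal :=
      Ideal.isMaximal_comap_of_isIntegral_of_isMaximal (R := A) (maximalIdeal C)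
    exact IsLocalRing.eq_maximalIdeal inferInstance
  let S := B ⊗[A] C
  letI : Algebra C S := Algebra.TensorProduct.rightAlgebra
  haveI : IsNoetherianRing S := IsNoetherianRing.of_finite B S
  haveI : Module.Flat C S :=
    Module.Flat.of_linearEquiv (Algebra.TensorProduct.commRight A C B).symm.toLinearEquiv
  have hBS : Function.Injective (algebraMap B S) :=
    Algebra.TensorProduct.includeLeft_injective (S := B) hAC
  have hloc : ∀ M : Ideal S, M.IsMaximal → (maximalIdeal C).map (algebraMap C S) ≤ M := by
    intro M hM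
    rw [Ideal.map_le_iff_le_comap]
    haveI := hM.isPrime
    refine (hmAC (M.comap (algebraMap C S)) fun a ha => ?_).ge
    haveI : (M.comap (algebraMap B S)).IsMaximal :=
      Ideal.isMaximal_comap_of_isIntegral_of_isMaximal (R := B) M
    have h1 : algebraMap A B a ∈ M.comap (algebraMap B S) := by
      rw [IsLocalRing.eq_maximalIdeal (I := M.comap (algebraMap B S)) inferInstance]
      have h0 : (maximalIdeal A).map (algebraMap A B) ≤ maximalIdeal B :=
        ((local_hom_TFAE (algebraMap A B)).out 0 2).mp ‹_›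
      exact h0 (Ideal.mem_map_of_mem _ ha)
    rw [Ideal.mem_comap, Ideal.mem_comap]
    rw [Ideal.mem_comap] at h1
    convert h1 using 1
    show (1 : B) ⊗ₜ[A] algebraMap A C a = algebraMap A B a ⊗ₜ[A] (1 : C)
    rw [Algebra.algebraMap_eq_smul_one, Algebra.algebraMap_eq_smul_one, smul_tmul]
  haveI := hq.1.1
  obtain ⟨q1, -, hq1, hq1c⟩ := Ideal.exists_ideal_over_prime_of_isIntegral (S := S) q ⊥
    (by rw [← RingHom.ker_eq_comap_bot, (RingHom.injective_iff_ker_eq_bot _).mp hBS]; exact bot_le)
  obtain ⟨q2, hq2, hq21⟩ := Ideal.exists_minimalPrimes_le (I := (⊥ : Ideal S)) (J := q1) bot_le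
  haveI := hq2.1.1
  have hq2c : q2.comap (algebraMap B S) = q := by
    refine le_antisymm (hq1c ▸ Ideal.comap_mono hq21) ?_
    exact hq.2 ⟨inferInstance, bot_le⟩ (hq1c ▸ Ideal.comap_mono hq21)
  obtain ⟨Q, hQ, hlt, hmax⟩ := exists_lt_not_isMaximal C S P hP hPmC hloc q2 hq2
  exact ⟨Q.comap (algebraMap B S), Ideal.IsPrime.comap _, hq2c ▸ Ideal.IsIntegral.comap_lt_comap hlt,
    fun h => hmax (Ideal.isMaximal_of_isIntegral_of_isMaximal_comap (R := B) Q h)⟩

end Groth.Agent.CTwoLib
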